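import Mathlib

/-! Torsion of order `p` reducing to the identity over a DVR with `e < p - 1`. -/

set_option autoImplicit false
set_option backward.isDefEq.respectTransparency false

universe u

open CategoryTheory MonoidalCategory CartesianMonoidalCategory AlgebraicGeometry
open scoped MonObj

noncomputable section

namespace Groth.Agent.SmallRamTors

/-- The valuation estimate on finite differences of an endomorphism of order `p`. -/
theorem no_period {R O : Type u} [CommRing R] [IsDomain R] [IsDiscreteValuationRing R] [CommRing O] [Algebra R O]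
    (p : ℕ) (hp : p.Prime) (e : ℕ) (he : e + 1 < p) (π : R) (hπ : Irreducible π) (w : Rˣ) (hw : (p : R) = w * π ^ e)
    (θ : O →ₗ[R] O) (φ : O →ₗ[R] R) (hper : ∀ f, φ ((θ ^ p) f) = φ f) (v : ℕ) (hv : 0 < v)
    (hδ : ∀ f, ∃ g, θ f - f = π ^ v • g) (f : O) (hf : ¬ π ^ (v + 1) ∣ φ (θ f) - φ f) : False := by
  set δ : O →ₗ[R] O := θ - 1 with hδdef
  have hθ : θ = δ + 1 := by simp [hδdef]
  have hk : ∀ k, ∀ g, π ^ (v * k) ∣ φ ((δ ^ k) g) := by
    have : ∀ k, ∀ g, ∃ g', (δ ^ k) g = π ^ (v * k) • g' := by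
      intro k
      induction k with
      | zero => exact fun g => ⟨g, by simp⟩
      | succ k ih =>
        intro g
        obtain ⟨g', hg'⟩ := ih g
        obtain ⟨g'', hg''⟩ := hδ g'
        refine ⟨g'', ?_⟩
        rw [pow_succ', Module.End.mul_apply, hg', map_smul, hδdef, LinearMap.sub_apply, Module.End.one_apply,
          hg'', smul_smul, ← pow_add]
        rfl
    intro k g
    obtain ⟨g', hg'⟩ := this k g
    rw [hg', map_smul, smul_eq_mul]
    exact dvd_mul_right _ _
  obtain ⟨q, rfl⟩ : ∃ q, p = q + 2 := ⟨p - 2, by have := hp.two_le; omega⟩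
  have hexp := hper f
  rw [hθ, (Commute.one_right δ).add_pow, LinearMap.sum_apply, map_sum, Finset.sum_range_succ',
    Finset.sum_range_succ'] at hexp
  simp only [one_pow, mul_one, Module.End.mul_apply, Module.End.natCast_apply, map_nsmul, pow_zero,
    Nat.choose_zero_right, one_smul, Module.End.one_apply, Nat.zero_add, pow_one, Nat.choose_one_right,
    map_nsmul] at hexp
  simp only [map_nsmul, nsmul_eq_mul] at hexp
  have hrest : π ^ (e + v + 1) ∣
      ∑ k ∈ Finset.range (q + 1), ((q + 2).choose (k + 1 + 1) : R) * φ ((δ ^ (k + 1 + 1)) f) := by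
    refine Finset.dvd_sum fun k hk' => ?_
    rw [Finset.mem_range] at hk'
    rcases eq_or_lt_of_le (show k + 2 ≤ q + 2 by omega) with h | h
    · refine Dvd.dvd.mul_left ((pow_dvd_pow π ?_).trans (hk _ _)) _
      calc e + v + 1 ≤ (q + 1) + v := by omega
        _ ≤ (q + 1) * v + v := by nlinarith
        _ = v * (k + 1 + 1) := by rw [show k + 1 + 1 = q + 2 by omega]; ring
    · obtain ⟨c, hc⟩ := hp.dvd_choose_self (show k + 1 + 1 ≠ 0 by omega) h
      have : π ^ e * π ^ (v * (k + 1 + 1)) ∣ ((q + 2).choose (k + 1 + 1) : R) * φ ((δ ^ (k + 1 + 1)) f) := by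
        refine mul_dvd_mul ?_ (hk _ _)
        rw [hc, Nat.cast_mul, hw]
        exact Dvd.dvd.mul_right (dvd_mul_left _ _) _
      refine dvd_trans ?_ this
      rw [← pow_add]
      exact pow_dvd_pow π (by nlinarith)
  have hδf : φ (δ f) = φ (θ f) - φ f := by simp [hδdef]
  have h1 : π ^ (e + v + 1) ∣ ((q + 2 : ℕ) : R) * φ (δ f) := by
    have h2 : ((q + 2 : ℕ) : R) * φ (δ f) =
        -(∑ k ∈ Finset.range (q + 1), ((q + 2).choose (k + 1 + 1) : R) * φ ((δ ^ (k + 1 + 1)) f)) := by
      linear_combination hexp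
    rw [h2]
    exact dvd_neg.2 hrest
  rw [hw, hδf, add_assoc, pow_add, mul_assoc] at h1
  rw [mul_comm (w : R), mul_assoc] at h1
  have h3 := (mul_dvd_mul_iff_left (pow_ne_zero _ hπ.ne_zero)).1 h1
  exact hf ((Units.dvd_mul_right).1 h3)

section

variable {X : Scheme.{u}} {B : CommRingCat.{u}} [IsLocalRing B]

theorem exists_lift_stalk (f : Spec B ⟶ X) (c : X) (hc : f (IsLocalRing.closedPoint B) = c) :
    ∃ φ : X.presheaf.stalk c ⟶ B, IsLocalHom φ.hom ∧ Spec.map φ ≫ X.fromSpecStalk c = f := by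
  subst hc
  exact ⟨Scheme.stalkClosedPointTo f, inferInstance, Scheme.Spec_stalkClosedPointTo_fromSpecStalk f⟩

theorem lift_stalk_unique {C : CommRingCat.{u}} {c : X} (φ φ' : X.presheaf.stalk c ⟶ C)
    (h : Spec.map φ ≫ X.fromSpecStalk c = Spec.map φ' ≫ X.fromSpecStalk c) : φ = φ' :=
  Spec.map_injective ((cancel_mono _).1 h)

end

/-- A section of order `p` of a group over a DVR with `e < p - 1` which reduces to the identity is trivial. -/
theorem eq_one_of_pow_prime {R : Type u} [CommRing R] [IsDomain R] [IsDiscreteValuationRing R]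
    (N : Over (Spec (CommRingCat.of R))) [GrpObj N] (p : ℕ) (hp : p.Prime) (hp0 : (p : R) ≠ 0)
    (hv : (p : R) ∉ IsLocalRing.maximalIdeal R ^ (p - 1))
    (x : 𝟙_ (Over (Spec (CommRingCat.of R))) ⟶ N) (hx : x ^ p = 1)
    (hred : x.left.base (IsLocalRing.closedPoint R) = (η[N]).left.base (IsLocalRing.closedPoint R)) : x = 1 := by
  obtain ⟨π, hπ⟩ := IsDiscreteValuationRing.exists_irreducible R
  obtain ⟨e, w, hw⟩ := IsDiscreteValuationRing.eq_unit_mul_pow_irreducible hp0 hπ
  have he : e + 1 < p := by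
    by_contra h
    apply hv
    rw [hπ.maximalIdeal_eq, Ideal.span_singleton_pow, Ideal.mem_span_singleton, hw]
    exact Dvd.dvd.mul_left (pow_dvd_pow π (by omega)) _
  let S := Spec (CommRingCat.of R)
  let c : N.left := (η[N]).left.base (IsLocalRing.closedPoint R)
  let O := N.left.presheaf.stalk c
  let fs := N.left.fromSpecStalk c
  obtain ⟨φ₀, hφ₀l, hφ₀⟩ := exists_lift_stalk (B := CommRingCat.of R) (η[N]).left c rfl
  obtain ⟨ψ, hψl, hψ⟩ := exists_lift_stalk (B := CommRingCat.of R) x.left c hred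
  let T : N ⟶ N := (toUnit N ≫ x) * 𝟙 N
  have hT : ∀ {A : Over (Spec (CommRingCat.of R))} (y : A ⟶ N), y ≫ T = (toUnit A ≫ x) * y := fun y => by
    rw [MonObj.comp_mul, Category.comp_id, comp_toUnit_assoc]
  have hTpow : ∀ k : ℕ, (x ^ k) ≫ T = x ^ (k + 1) := fun k => by
    rw [hT, pow_succ', toUnit_unique (toUnit (𝟙_ (Over (Spec (CommRingCat.of R))))) (𝟙 _), Category.id_comp]
  have hTc : T.left c = c := by
    show T.left ((η[N]).left (IsLocalRing.closedPoint R)) = c
    rw [← Scheme.Hom.comp_apply, ← Over.comp_left, show (η[N] : 𝟙_ _ ⟶ N) = x ^ 0 from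
      ((pow_zero x).trans (MonObj.one_eq_one N)).symm, hTpow, pow_one]
    exact hred
  obtain ⟨θ, -, hθ⟩ := exists_lift_stalk (B := O) (fs ≫ T.left) c (by
    rw [Scheme.Hom.comp_apply]
    exact (congrArg T.left (Scheme.fromSpecStalk_closedPoint (X := N.left) (x := c))).trans hTc)
  let α : CommRingCat.of R ⟶ O := Spec.preimage (fs ≫ N.hom)
  have hα : Spec.map α = fs ≫ N.hom := Spec.map_preimage _
  have hαφ : α ≫ φ₀ = 𝟙 _ := Spec.map_injective (by
    rw [Spec.map_comp, hα, ← Category.assoc, hφ₀]; simpa using Over.w η[N])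
  have hαψ : α ≫ ψ = 𝟙 _ := Spec.map_injective (by
    rw [Spec.map_comp, hα, ← Category.assoc, hψ]; simpa using Over.w x)
  have hαθ : α ≫ θ = α := Spec.map_injective (by
    rw [Spec.map_comp, hα, ← Category.assoc, hθ, Category.assoc, Over.w T])
  letI : Algebra R O := α.hom.toAlgebra
  let φL : O →ₗ[R] R :=
    { toFun := φ₀.hom
      map_add' := map_add φ₀.hom
      map_smul' := fun r f => by
        show φ₀.hom (α.hom r * f) = r * φ₀.hom f
        rw [map_mul]
        exact congrArg (· * _) (ConcreteCategory.congr_hom hαφ r) }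
  let θL : O →ₗ[R] O :=
    { toFun := θ.hom
      map_add' := map_add θ.hom
      map_smul' := fun r f => by
        show θ.hom (α.hom r * f) = α.hom r * θ.hom f
        rw [map_mul]
        exact congrArg (· * _) (ConcreteCategory.congr_hom hαθ r) }
  have hit : ∀ k : ℕ, ∃ χ : O ⟶ CommRingCat.of R, Spec.map χ ≫ fs = (x ^ k).left ∧
      ∀ f, χ.hom f = φL ((θL ^ k) f) := by
    intro k
    induction k with
    | zero => exact ⟨φ₀, by rw [pow_zero, ← MonObj.one_eq_one N, hφ₀], fun f => rfl⟩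
    | succ k ih =>
      obtain ⟨χ, h1, h2⟩ := ih
      refine ⟨θ ≫ χ, ?_, fun f => ?_⟩
      · rw [Spec.map_comp, Category.assoc, hθ, ← Category.assoc, h1, ← Over.comp_left, hTpow]
      · rw [CommRingCat.comp_apply, h2, pow_succ, Module.End.mul_apply]
        rfl
  have hψ1 : ∀ f, ψ.hom f = φL (θL f) := by
    obtain ⟨χ, h1, h2⟩ := hit 1
    intro f
    rw [lift_stalk_unique ψ χ (by rw [hψ, h1, pow_one]), h2, pow_one]
  have hper : ∀ f, φL ((θL ^ p) f) = φL f := by
    obtain ⟨χ, h1, h2⟩ := hit p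
    obtain ⟨χ', h1', h2'⟩ := hit 0
    intro f
    rw [← h2, lift_stalk_unique χ χ' (by rw [h1, h1', hx, pow_zero]), h2', pow_zero]
    rfl
  by_contra hne
  have hex : ∃ n : ℕ, ∃ f, ¬ π ^ (n + 1) ∣ φL (θL f) - φL f := by
    by_contra hall
    refine hne (Over.OverMorphism.ext ?_)
    rw [← MonObj.one_eq_one N, ← hψ, ← hφ₀]
    refine congrArg (fun t => Spec.map t ≫ fs) (CommRingCat.hom_ext (RingHom.ext fun f => ?_))
    by_contra hne'
    obtain ⟨n, u', hu'⟩ := IsDiscreteValuationRing.eq_unit_mul_pow_irreducible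
      (sub_ne_zero.2 hne') hπ
    refine hall ⟨n, f, fun hd => hπ.not_isUnit ?_⟩
    rw [← hψ1] at hd
    change π ^ (n + 1) ∣ ψ.hom f - φ₀.hom f at hd
    rw [hu', pow_succ, mul_comm (u' : R)] at hd
    exact isUnit_of_dvd_unit ((mul_dvd_mul_iff_left (pow_ne_zero _ hπ.ne_zero)).1 hd) u'.isUnit
  classical
  obtain ⟨f, hf⟩ := Nat.find_spec hex
  set v := Nat.find hex with hvdef
  have hdiv : ∀ g, π ^ v ∣ ψ.hom g - φ₀.hom g := fun g => by
    rcases Nat.eq_zero_or_pos v with h0 | h0
    · simp [h0]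
    · have := Nat.find_min hex (show v - 1 < v by omega)
      push Not at this
      have h2 := this g
      rw [← hψ1, Nat.sub_add_cancel h0] at h2
      exact h2
  have hv0 : 0 < v := by
    rcases Nat.eq_zero_or_pos v with h0 | h0
    · exfalso
      apply hf
      rw [← hψ1, h0, Nat.zero_add, pow_one, ← Ideal.mem_span_singleton, ← hπ.maximalIdeal_eq]
      have hm : f - α.hom (φ₀.hom f) ∈ IsLocalRing.maximalIdeal O := fun hu => by
        have := hu.map φ₀.hom
        rw [map_sub, show φ₀.hom (α.hom (φ₀.hom f)) = φ₀.hom f from ConcreteCategory.congr_hom hαφ _,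
          sub_self] at this
        exact not_isUnit_zero this
      have h2 : ψ.hom (f - α.hom (φ₀.hom f)) ∈ IsLocalRing.maximalIdeal R :=
        fun hu => hm (hψl.map_nonunit _ hu)
      rwa [map_sub, show ψ.hom (α.hom (φ₀.hom f)) = φ₀.hom f from ConcreteCategory.congr_hom hαψ _] at h2
    · exact h0
  let Q : Ideal O := Ideal.span {α.hom (π ^ v)}
  let q : O ⟶ CommRingCat.of (O ⧸ Q) := CommRingCat.ofHom (Ideal.Quotient.mk Q)
  have hq : α ≫ ψ ≫ α ≫ q = α ≫ φ₀ ≫ α ≫ q := by rw [reassoc_of% hαψ, reassoc_of% hαφ]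
  have hqq : ψ ≫ α ≫ q = φ₀ ≫ α ≫ q := CommRingCat.hom_ext (RingHom.ext fun g => by
    obtain ⟨r, hr⟩ := hdiv g
    refine Ideal.Quotient.eq.2 ?_
    show α.hom (ψ.hom g) - α.hom (φ₀.hom g) ∈ Q
    rw [← map_sub, hr, map_mul]
    exact Ideal.mul_mem_right _ _ (Ideal.mem_span_singleton_self _))
  let A : Over (Spec (CommRingCat.of R)) := Over.mk (Spec.map q ≫ fs ≫ N.hom)
  let i : A ⟶ N := Over.homMk (Spec.map q ≫ fs) (Category.assoc _ _ _)
  have hb : toUnit A ≫ x = 1 := by
    rw [← MonObj.comp_one (toUnit A), ← MonObj.one_eq_one N]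
    refine Over.OverMorphism.ext ?_
    show A.hom ≫ x.left = A.hom ≫ (η[N]).left
    show (Spec.map q ≫ fs ≫ N.hom) ≫ x.left = (Spec.map q ≫ fs ≫ N.hom) ≫ (η[N]).left
    rw [← hα, ← Spec.map_comp, ← hψ, ← hφ₀, ← Spec.map_comp_assoc, ← Spec.map_comp_assoc, hqq]
  have hiT : i ≫ T = i := by rw [hT, hb, one_mul]
  have hθq : θ ≫ q = q := lift_stalk_unique _ _ (by
    rw [Spec.map_comp, Category.assoc, hθ, ← Category.assoc]
    exact congrArg CommaMorphism.left hiT)
  refine no_period p hp e he π hπ w hw θL φL hper v hv0 (fun g => ?_) f hf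
  have h4 : θ.hom g - g ∈ Q := Ideal.Quotient.eq.1 (ConcreteCategory.congr_hom hθq g)
  obtain ⟨g', hg'⟩ := Ideal.mem_span_singleton'.1 h4
  exact ⟨g', by show θ.hom g - g = α.hom (π ^ v) * g'; rw [← hg', mul_comm]⟩

end Groth.Agent.SmallRamTors
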